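import Groth.Agent.GrpLimLib.Descend
import Groth.Agent.LimSm.Cover
import Groth.Agent.LimSm.Flat
import Groth.Agent.ConsPropLib.NoethApprox
import Groth.Agent.ConsPropLib.Cores
import Groth.Agent.GrpSchLib.RankOneBig
import Groth.Agent.GrpFieldLib.SVFamily
import Groth.Agent.S0114
import Groth.Agent.S4597
import Groth.Agent.S12442

/-!
# Representability of quotients by flat equivalence relations descends along limits
-/

set_option autoImplicit false
set_option backward.isDefEq.respectTransparency false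
set_option maxHeartbeats 1000000
set_option linter.style.haveILetI false

open CategoryTheory CategoryTheory.Limits MonoidalCategory CartesianMonoidalCategory MonObj AlgebraicGeometry

universe u

noncomputable section

namespace Groth.Agent.GrpLimLib

theorem quasiSeparated_of_quotient {S : Scheme.{u}} {X R Y : Over S} (s t : R ⟶ X) (p : X ⟶ Y)
    [QuasiCompact R.hom] [QuasiSeparated X.hom] [Flat p.left] [Surjective p.left]
    [LocallyOfFinitePresentation p.left] (h : IsPullback s t p p) : QuasiSeparated Y.hom := by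
  haveI hXX : QuasiSeparated (X ⊗ X).hom :=
    inferInstanceAs (QuasiSeparated (pullback.fst X.hom X.hom ≫ X.hom))
  haveI : QuasiCompact (lift s t).left := by
    haveI : QuasiCompact ((lift s t).left ≫ (X ⊗ X).hom) := by rw [Over.w]; infer_instance
    exact QuasiCompact.of_comp (lift s t).left (X ⊗ X).hom
  let pp := (p ⊗ₘ p).left
  haveI : Flat pp := GrpSchLib.RankOne.property_tensorHom p p @Flat inferInstance inferInstance
  haveI : Surjective pp := GrpSchLib.RankOne.property_tensorHom p p @Surjective inferInstance inferInstance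
  haveI : LocallyOfFinitePresentation pp :=
    GrpSchLib.RankOne.property_tensorHom p p @LocallyOfFinitePresentation inferInstance inferInstance
  have hd : IsPullback (s ≫ p) (lift s t) (lift (𝟙 Y) (𝟙 Y)) (p ⊗ₘ p) := by
    refine IsPullback.of_isLimit' ⟨?_⟩ ?_
    · rw [comp_lift, Category.comp_id, lift_map, h.w]
    · refine PullbackCone.IsLimit.mk _ (fun c => h.lift (c.snd ≫ fst X X) (c.snd ≫ snd X X) ?_) ?_ ?_ ?_
      · have e := c.condition
        have e1 := congrArg (· ≫ fst Y Y) e
        have e2 := congrArg (· ≫ snd Y Y) e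
        simp only [Category.assoc, lift_fst, lift_snd, tensorHom_fst, tensorHom_snd, Category.comp_id] at e1 e2
        rw [Category.assoc, Category.assoc, ← e1, e2]
      · intro c
        have e := congrArg (· ≫ fst Y Y) c.condition
        simp only [Category.assoc, lift_fst, tensorHom_fst, Category.comp_id] at e
        rw [h.lift_fst_assoc, Category.assoc, e]
      · intro c
        apply CartesianMonoidalCategory.hom_ext <;> simp
      · intro c m h1 h2
        apply h.hom_ext
        · rw [h.lift_fst, ← h2, Category.assoc, lift_fst]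
        · rw [h.lift_snd, ← h2, Category.assoc, lift_snd]
  have hdiag : QuasiCompact (lift (𝟙 Y) (𝟙 Y)).left := by
    refine ⟨fun W hW hWc => ?_⟩
    let O : (X ⊗ X).left.Opens := pp ⁻¹ᵁ ⟨W, hW⟩
    have hcov : ∀ w ∈ W, ∃ V : (X ⊗ X).left.Opens, IsAffineOpen V ∧ V ≤ O ∧ w ∈ pp '' (V : Set (X ⊗ X).left) := by
      intro w hw
      obtain ⟨x, rfl⟩ := pp.surjective w
      obtain ⟨V, hV, hxV, hVO⟩ := exists_isAffineOpen_mem_and_subset (U := O) hw
      exact ⟨V, hV, hVO, x, hxV, rfl⟩
    choose V hV hVO hwV using hcov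
    obtain ⟨F, hF⟩ := hWc.elim_finite_subcover (fun w : W => pp '' (V w.1 w.2 : Set (X ⊗ X).left))
      (fun w => pp.isOpenMap _ (V w.1 w.2).2) (fun w hw => Set.mem_iUnion.2 ⟨⟨w, hw⟩, hwV w hw⟩)
    let K : Set R.left := (lift s t).left ⁻¹' ⋃ w ∈ F, (V w.1 w.2 : Set (X ⊗ X).left)
    have hK : IsCompact K := by
      refine QuasiCompact.isCompact_preimage _ (isOpen_biUnion fun w _ => (V w.1 w.2).2) ?_
      exact F.isCompact_biUnion fun w _ => (hV w.1 w.2).isCompact
    have e : (lift (𝟙 Y) (𝟙 Y)).left ⁻¹' W = (s ≫ p).left '' K := by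
      have hsq := hd.map (Over.forget S)
      ext y
      constructor
      · intro hy
        obtain ⟨w, hwF, x, hx, hxy⟩ := Set.mem_iUnion₂.1 (hF hy)
        obtain ⟨r, hr1, hr2⟩ := GrpFieldLib.SecComp.exists_preimage_of_isPullback hsq y x hxy.symm
        exact ⟨r, Set.mem_iUnion₂.2 ⟨w, hwF, show (lift s t).left r ∈ (V w.1 w.2 : Set (X ⊗ X).left) from hr2 ▸ hx⟩, hr1⟩
      · rintro ⟨r, hr, rfl⟩
        obtain ⟨w, hwF, hw⟩ := Set.mem_iUnion₂.1 hr
        show (lift (𝟙 Y) (𝟙 Y)).left ((s ≫ p).left r) ∈ W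
        rw [← Scheme.Hom.comp_apply, ← Over.comp_left, hd.w, Over.comp_left, Scheme.Hom.comp_apply]
        exact hVO w.1 w.2 hw
    rw [e]
    exact hK.image (s ≫ p).left.continuous
  refine ⟨?_⟩
  have e : (lift (𝟙 Y) (𝟙 Y)).left = pullback.diagonal Y.hom := by
    apply pullback.hom_ext
    · rw [pullback.diagonal_fst]; exact congrArg CommaMorphism.left (lift_fst (𝟙 Y) (𝟙 Y))
    · rw [pullback.diagonal_snd]; exact congrArg CommaMorphism.left (lift_snd (𝟙 Y) (𝟙 Y))
  rwa [e] at hdiag

theorem isIso_left {S : Scheme.{u}} {A B : Over S} (e : A ⟶ B) [IsIso e] : IsIso e.left :=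
  inferInstanceAs (IsIso ((Over.forget S).map e))

section Conj

variable {A B E : Scheme.{u}} {σ : B ⟶ A} {τ : E ⟶ B} {ρ : E ⟶ A}

theorem property_map_left (P : MorphismProperty Scheme.{u}) [P.IsStableUnderBaseChange] {X Y : Over A} (h : X ⟶ Y)
    (σ : B ⟶ A) (hh : P h.left) : P ((Over.pullback σ).map h).left := by
  have sq : IsPullback (pullback.fst X.hom σ) ((Over.pullback σ).map h).left h.left (pullback.fst Y.hom σ) := by
    refine IsPullback.of_bot ?_ (map_left_fst h).symm (IsPullback.of_hasPullback Y.hom σ)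
    rw [show ((Over.pullback σ).map h).left ≫ pullback.snd Y.hom σ = pullback.snd X.hom σ from pullback.lift_snd _ _ _,
      Over.w h]
    exact IsPullback.of_hasPullback X.hom σ
  exact MorphismProperty.of_isPullback sq hh

theorem isPullback_cmp (e : τ ≫ σ = ρ) {R X : Over A} (s t : R ⟶ X) {Y : Over B} (p : Red.bc σ X ⟶ Y)
    (h : IsPullback ((Over.pullback σ).map s) ((Over.pullback σ).map t) p p) :
    IsPullback ((Over.pullback ρ).map s) ((Over.pullback ρ).map t) ((cmp e X).inv ≫ (Over.pullback τ).map p)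
      ((cmp e X).inv ≫ (Over.pullback τ).map p) := by
  haveI : (Over.pullback τ).IsRightAdjoint := (Over.mapPullbackAdj τ).isRightAdjoint
  refine (h.map (Over.pullback τ)).of_iso (cmp e R) (cmp e X) (cmp e X) (Iso.refl _)
    (cmp_natural e s) (cmp_natural e t) ?_ ?_
  · simp
  · simp

theorem cmp_assoc {F : Scheme.{u}} {χ : F ⟶ E} {κ : F ⟶ B} {ν : F ⟶ A} (e₁ : τ ≫ σ = ρ) (e₂ : χ ≫ τ = κ)
    (e₃ : χ ≫ ρ = ν) (e₄ : κ ≫ σ = ν) (X : Over A) :
    (Over.pullback χ).map (cmp e₁ X).inv ≫ (cmp e₂ (Red.bc σ X)).hom ≫ (cmp e₄ X).hom = (cmp e₃ X).hom := by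
  rw [← cancel_epi ((Over.pullback χ).map (cmp e₁ X).hom), ← Functor.map_comp_assoc, Iso.hom_inv_id,
    CategoryTheory.Functor.map_id, Category.id_comp]
  apply hom_ext₁
  simp only [Over.comp_left, Category.assoc, cmp_hom_fst, pr]
  rw [reassoc_of% (cmp_hom_fst e₂ (Red.bc σ X)), reassoc_of% (map_left_fst (h := χ) (cmp e₁ X).hom)]
  try simp only [pr, Category.assoc]
  rw [cmp_hom_fst]

theorem map_conj (e : τ ≫ σ = ρ) {P Q : Over A} (x : P ⟶ Q) :
    (Over.pullback ρ).map x = (cmp e P).inv ≫ (Over.pullback τ).map ((Over.pullback σ).map x) ≫ (cmp e Q).hom := by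
  rw [cmp_natural, Iso.inv_hom_id_assoc]

end Conj

variable {I : Type u} [SmallCategory I] [IsCofiltered I] (D : I ⥤ Scheme.{u}) {c : Cone D} (hc : IsLimit c)
  [∀ (i i' : I) (f : i ⟶ i'), IsAffineHom (D.map f)] [∀ i, CompactSpace (D.obj i)]
  [∀ i, QuasiSeparatedSpace (D.obj i)]

include hc in
/-- An isomorphism over the limit is an isomorphism at a stage. -/
theorem exists_isIso_stage {j : I} {P Q : Over (D.obj j)} [QuasiCompact P.hom] [QuasiSeparated P.hom]
    [LocallyOfFinitePresentation P.hom] [QuasiCompact Q.hom] [QuasiSeparated Q.hom]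
    [LocallyOfFinitePresentation Q.hom] (φ : P ⟶ Q) [IsIso ((Over.pullback (c.π.app j)).map φ)] :
    ∃ (i : I) (f : i ⟶ j), IsIso ((Over.pullback (D.map f)).map φ) := by
  obtain ⟨i₁, f₁, ψ, hψ⟩ := exists_map_fst_eq D hc (P := Q) (Q := P) (inv ((Over.pullback (c.π.app j)).map φ))
  haveI : QuasiCompact (Red.bc (D.map f₁) P).hom := MorphismProperty.pullback_snd _ _ inferInstance
  haveI : QuasiSeparated (Red.bc (D.map f₁) P).hom := MorphismProperty.pullback_snd _ _ inferInstance
  haveI : QuasiCompact (Red.bc (D.map f₁) Q).hom := MorphismProperty.pullback_snd _ _ inferInstance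
  haveI : QuasiSeparated (Red.bc (D.map f₁) Q).hom := MorphismProperty.pullback_snd _ _ inferInstance
  haveI : LocallyOfFiniteType (Red.bc (D.map f₁) P).hom :=
    MorphismProperty.pullback_snd _ _ (show LocallyOfFiniteType P.hom from inferInstance)
  haveI : LocallyOfFiniteType (Red.bc (D.map f₁) Q).hom :=
    MorphismProperty.pullback_snd _ _ (show LocallyOfFiniteType Q.hom from inferInstance)
  have hl1 : (Over.pullback (c.π.app i₁)).map ((Over.pullback (D.map f₁)).map φ ≫ ψ) =
      (Over.pullback (c.π.app i₁)).map (𝟙 _) := by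
    rw [← cancel_mono (cmp (c.w f₁) _).hom, Functor.map_comp, Category.assoc, hψ]
    simp only [Category.assoc, Iso.inv_hom_id, Category.comp_id]
    rw [reassoc_of% (cmp_natural (c.w f₁) φ), IsIso.hom_inv_id, Category.comp_id,
      CategoryTheory.Functor.map_id, Category.id_comp]
  have hl2 : (Over.pullback (c.π.app i₁)).map (ψ ≫ (Over.pullback (D.map f₁)).map φ) =
      (Over.pullback (c.π.app i₁)).map (𝟙 _) := by
    rw [← cancel_mono (cmp (c.w f₁) _).hom, Functor.map_comp, Category.assoc, cmp_natural, hψ]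
    simp only [Category.assoc, Iso.inv_hom_id_assoc, IsIso.inv_hom_id, Category.comp_id]
    rw [CategoryTheory.Functor.map_id, Category.id_comp]
  obtain ⟨i₂, g₂, e₂⟩ := exists_map_eq D hc _ _ hl1
  obtain ⟨i₃, g₃, e₃⟩ := exists_map_eq D hc _ _ hl2
  obtain ⟨i₄, p₂, p₃, hp⟩ := IsCofiltered.cospan g₂ g₃
  have a1 := map_map_eq (D.map g₂) (D.map p₂) _ (D.map_comp p₂ g₂).symm e₂
  have a2 := map_map_eq (D.map g₃) (D.map p₃) _ (D.map_comp p₃ g₃).symm e₃
  rw [← hp] at a2
  rw [(Over.pullback (D.map (p₂ ≫ g₂))).map_comp, (Over.pullback (D.map (p₂ ≫ g₂))).map_id] at a1 a2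
  haveI : IsIso ((Over.pullback (D.map (p₂ ≫ g₂))).map ((Over.pullback (D.map f₁)).map φ)) := ⟨⟨_, a1, a2⟩⟩
  refine ⟨i₄, (p₂ ≫ g₂) ≫ f₁, ?_⟩
  rw [map_conj (D.map_comp (p₂ ≫ g₂) f₁).symm φ]
  infer_instance

/-- The quotient of the base change along `σ` is representable. -/
def HasQuot {A B : Scheme.{u}} (σ : B ⟶ A) {R X : Over A} (s t : R ⟶ X) : Prop :=
  ∃ (Y : Over B) (p : Red.bc σ X ⟶ Y), Flat p.left ∧ Surjective p.left ∧ LocallyOfFinitePresentation p.left ∧
    IsPullback ((Over.pullback σ).map s) ((Over.pullback σ).map t) p p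

theorem HasQuot.push {A B E : Scheme.{u}} {σ : B ⟶ A} {τ : E ⟶ B} {ρ : E ⟶ A} (e : τ ≫ σ = ρ) {R X : Over A}
    {s t : R ⟶ X} (h : HasQuot σ s t) : HasQuot ρ s t := by
  obtain ⟨Y, p, h1, h2, h3, h4⟩ := h
  haveI := property_map_left @Flat p τ h1
  haveI := property_map_left @Surjective p τ h2
  haveI := property_map_left @LocallyOfFinitePresentation p τ h3
  haveI : IsIso (cmp e X).inv.left := inferInstanceAs (IsIso ((Over.forget _).map (cmp e X).inv))
  refine ⟨_, (cmp e X).inv ≫ (Over.pullback τ).map p, ?_, ?_, ?_, isPullback_cmp e s t p h4⟩ <;>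
    · rw [Over.comp_left]; infer_instance

include hc in
/-- A quotient over the limit exists at a stage. -/
theorem exists_hasQuot_stage {j : I} (X R : Over (D.obj j))
    [LocallyOfFinitePresentation X.hom] [QuasiCompact X.hom] [QuasiSeparated X.hom]
    [LocallyOfFinitePresentation R.hom] [QuasiCompact R.hom] [QuasiSeparated R.hom]
    (s t : R ⟶ X) (h : HasQuot (c.π.app j) s t) :
    ∃ (i : I) (f : i ⟶ j), HasQuot (D.map f) s t := by
  obtain ⟨Y, p, h1, h2, h3, h4⟩ := h
  haveI := h1; haveI := h2; haveI := h3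
  haveI : QuasiCompact (Red.bc (c.π.app j) R).hom := MorphismProperty.pullback_snd _ _ inferInstance
  haveI : QuasiCompact (Red.bc (c.π.app j) X).hom := MorphismProperty.pullback_snd _ _ inferInstance
  haveI : QuasiSeparated (Red.bc (c.π.app j) X).hom := MorphismProperty.pullback_snd _ _ inferInstance
  haveI hYp : LocallyOfFinitePresentation Y.hom := by
    haveI : LocallyOfFinitePresentation (p.left ≫ Y.hom) := by
      rw [Over.w p]; exact MorphismProperty.pullback_snd _ _ inferInstance
    exact S0114.result p.left Y.hom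
  haveI hYs : QuasiSeparated Y.hom := quasiSeparated_of_quotient _ _ p h4
  haveI hYc : QuasiCompact Y.hom := by
    haveI : QuasiCompact (p.left ≫ Y.hom) := by rw [Over.w p]; infer_instance
    refine ⟨fun U hU hUc => ?_⟩
    rw [← Set.image_preimage_eq (Y.hom ⁻¹' U) p.left.surjective]
    exact (QuasiCompact.isCompact_preimage (f := p.left ≫ Y.hom) U hU hUc).image p.left.continuous
  haveI : ∀ {X Y : I} (f : X ⟶ Y), IsAffineHom (D.map f) := fun f => inferInstance
  obtain ⟨m, Ym, fm, gm, hm⟩ := ConsPropLib.hasModel hc Y.hom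
  obtain ⟨o, a, b, -⟩ := IsCofilteredOrEmpty.cone_objs j m
  have hp := hm.pushed b
  haveI := hp.lfp; haveI := hp.qc; haveI := hp.qs
  let Yo : Over (D.obj o) := Over.mk (pullback.snd fm (D.map b))
  haveI : QuasiCompact (Red.bc (D.map a) X).hom := MorphismProperty.pullback_snd _ _ inferInstance
  haveI : QuasiSeparated (Red.bc (D.map a) X).hom := MorphismProperty.pullback_snd _ _ inferInstance
  haveI : LocallyOfFinitePresentation Yo.hom := hp.lfp
  let e₀ : Y ≅ Red.bc (c.π.app o) Yo := Over.isoMk hp.sq.isoPullback (hp.sq.isoPullback_hom_snd)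
  obtain ⟨i, a₁, p₁, hp₁⟩ := exists_map_fst_eq D hc (P := Red.bc (D.map a) X) (Q := Yo)
    ((cmp (c.w a) X).hom ≫ p ≫ e₀.hom)
  -- the data at the stage `i`
  have ef : D.map a₁ ≫ D.map a = D.map (a₁ ≫ a) := (D.map_comp a₁ a).symm
  obtain ⟨f, rfl⟩ : ∃ f, f = a₁ ≫ a := ⟨_, rfl⟩
  let Yi : Over (D.obj i) := Red.bc (D.map a₁) Yo
  haveI : LocallyOfFinitePresentation Yi.hom := MorphismProperty.pullback_snd _ _ hp.lfp
  haveI : QuasiCompact Yi.hom := MorphismProperty.pullback_snd _ _ hp.qc
  haveI : QuasiSeparated Yi.hom := MorphismProperty.pullback_snd _ _ hp.qs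
  let pi : Red.bc (D.map (a₁ ≫ a)) X ⟶ Yi := (cmp ef X).inv ≫ p₁
  haveI : LocallyOfFinitePresentation (Red.bc (D.map (a₁ ≫ a)) X).hom := MorphismProperty.pullback_snd _ _ inferInstance
  haveI : QuasiCompact (Red.bc (D.map (a₁ ≫ a)) X).hom := MorphismProperty.pullback_snd _ _ inferInstance
  haveI : QuasiSeparated (Red.bc (D.map (a₁ ≫ a)) X).hom := MorphismProperty.pullback_snd _ _ inferInstance
  haveI : LocallyOfFinitePresentation (Red.bc (D.map (a₁ ≫ a)) R).hom := MorphismProperty.pullback_snd _ _ inferInstance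
  haveI : QuasiCompact (Red.bc (D.map (a₁ ≫ a)) R).hom := MorphismProperty.pullback_snd _ _ inferInstance
  haveI : QuasiSeparated (Red.bc (D.map (a₁ ≫ a)) R).hom := MorphismProperty.pullback_snd _ _ inferInstance
  obtain ⟨θX, θY, hθX, hθ⟩ : ∃ (θX : Red.bc (c.π.app i) (Red.bc (D.map (a₁ ≫ a)) X) ≅ Red.bc (c.π.app j) X)
      (θY : Red.bc (c.π.app i) Yi ≅ Y), θX = cmp (c.w (a₁ ≫ a)) X ∧ (∀ x : R ⟶ X, (Over.pullback (c.π.app i)).map
        ((Over.pullback (D.map (a₁ ≫ a))).map x) ≫ θX.hom =
          (cmp (c.w (a₁ ≫ a)) R).hom ≫ (Over.pullback (c.π.app j)).map x) ∧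
        (Over.pullback (c.π.app i)).map pi ≫ θY.hom = θX.hom ≫ p := by
    refine ⟨cmp (c.w (a₁ ≫ a)) X, cmp (c.w a₁) Yo ≪≫ e₀.symm, rfl, fun x => cmp_natural _ x, ?_⟩
    show (Over.pullback (c.π.app i)).map pi ≫ (cmp (c.w a₁) Yo).hom ≫ e₀.inv = (cmp (c.w (a₁ ≫ a)) X).hom ≫ p
    simp only [pi, Functor.map_comp, Category.assoc]
    rw [hp₁]
    simp only [Category.assoc, Iso.inv_hom_id_assoc, Iso.hom_inv_id, Category.comp_id]
    rw [← cmp_assoc ef (c.w a₁) (c.w (a₁ ≫ a)) (c.w a) X]
    simp only [Category.assoc]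
  -- commutativity descends
  obtain ⟨k, g, hk⟩ := exists_map_eq D hc ((Over.pullback (D.map (a₁ ≫ a))).map s ≫ pi)
    ((Over.pullback (D.map (a₁ ≫ a))).map t ≫ pi) (by
      rw [← cancel_mono θY.hom]
      simp only [Functor.map_comp, Category.assoc, hθ.2, reassoc_of% (hθ.1 s), reassoc_of% (hθ.1 t), h4.w])
  -- flatness and surjectivity descend
  haveI : QuasiCompact pi.left := by
    haveI : QuasiCompact (pi.left ≫ Yi.hom) := by rw [Over.w pi]; infer_instance
    exact QuasiCompact.of_comp pi.left Yi.hom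
  haveI : QuasiSeparated pi.left := by
    haveI : QuasiSeparated (pi.left ≫ Yi.hom) := by rw [Over.w pi]; infer_instance
    exact QuasiSeparated.of_comp pi.left Yi.hom
  haveI : LocallyOfFinitePresentation pi.left := by
    haveI : LocallyOfFinitePresentation (pi.left ≫ Yi.hom) := by rw [Over.w pi]; infer_instance
    exact S12442.locallyOfFinitePresentation_of_comp pi.left Yi.hom
  haveI : CompactSpace Yi.left := QuasiCompact.compactSpace_of_compactSpace Yi.hom
  let πm := (Over.pullback (c.π.app i)).map pi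
  have hsq : IsPullback (pullback.fst (Red.bc (D.map (a₁ ≫ a)) X).hom (c.π.app i)) πm.left pi.left
      (pullback.fst Yi.hom (c.π.app i)) := by
    refine IsPullback.of_bot ?_ (map_left_fst pi).symm (IsPullback.of_hasPullback Yi.hom (c.π.app i))
    rw [show πm.left ≫ pullback.snd Yi.hom (c.π.app i) = pullback.snd (Red.bc (D.map (a₁ ≫ a)) X).hom (c.π.app i)
      from pullback.lift_snd _ _ _, Over.w pi]
    exact IsPullback.of_hasPullback _ _
  haveI : IsIso θX.hom.left := inferInstanceAs (IsIso ((Over.forget _).map θX.hom))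
  haveI : IsIso θY.inv.left := inferInstanceAs (IsIso ((Over.forget _).map θY.inv))
  have eπ : πm = θX.hom ≫ p ≫ θY.inv := by
    show (Over.pullback (c.π.app i)).map pi = _
    rw [← Category.assoc, ← hθ.2, Category.assoc, Iso.hom_inv_id, Category.comp_id]
  have hflat : Flat πm.left := by rw [eπ, Over.comp_left, Over.comp_left]; infer_instance
  have hsurj : Surjective πm.left := by rw [eπ, Over.comp_left, Over.comp_left]; infer_instance
  have hdesc : ∀ (P : MorphismProperty Scheme.{u}) [P.IsStableUnderBaseChange] [P.RespectsIso] [IsZariskiLocalAtTarget P],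
      MorLib.Desc.Core P (@LocallyOfFinitePresentation : MorphismProperty Scheme.{u}) → P πm.left →
      ∃ (l : I) (q : l ⟶ i), P ((Over.pullback (D.map q)).map pi).left := by
    intro P _ _ _ hcore hP
    obtain ⟨l, q, Xl, Yl, fl, gl, pY, pX, hY, hX, hPl⟩ := MorLib.Desc.descend₂ D c hc (P := P)
      (Q := @LocallyOfFinitePresentation) hcore pi.left Yi.hom inferInstance πm.left
      (pullback.snd Yi.hom (c.π.app i)) (pullback.fst Yi.hom (c.π.app i)) _ (IsPullback.of_hasPullback _ _) hsq hP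
    refine ⟨l, q, ?_⟩
    let vY : (Red.bc (D.map q) Yi).left ⟶ Yl :=
      hY.lift (pullback.fst Yi.hom (D.map q)) (pullback.snd Yi.hom (D.map q)) pullback.condition
    let vX : (Red.bc (D.map q) (Red.bc (D.map (a₁ ≫ a)) X)).left ⟶ Xl :=
      hX.lift (pullback.fst _ (D.map q)) (((Over.pullback (D.map q)).map pi).left ≫ vY) (by
        rw [Category.assoc, hY.lift_fst, map_left_fst])
    refine MorphismProperty.of_isPullback (P := P) (?_ : IsPullback vX ((Over.pullback (D.map q)).map pi).left fl vY) hPl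
    refine IsPullback.of_right ?_ (hX.lift_snd _ _ _) hX
    rw [hX.lift_fst, hY.lift_fst]
    refine IsPullback.of_bot ?_ (map_left_fst pi).symm (IsPullback.of_hasPullback Yi.hom (D.map q))
    rw [show ((Over.pullback (D.map q)).map pi).left ≫ pullback.snd Yi.hom (D.map q) =
      pullback.snd (Red.bc (D.map (a₁ ≫ a)) X).hom (D.map q) from pullback.lift_snd _ _ _, Over.w pi]
    exact IsPullback.of_hasPullback _ _
  haveI : MorphismProperty.RespectsIso (@Flat : MorphismProperty Scheme.{u}) :=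
    MorphismProperty.IsStableUnderBaseChange.respectsIso
  obtain ⟨l₁, q₁, hl₁⟩ := hdesc @Flat LimSm.core_flat hflat
  obtain ⟨l₂, q₂, hl₂⟩ := hdesc @Surjective ConsPropLib.core_surjective hsurj
  obtain ⟨w₁, r₁, r₂, hr⟩ := IsCofiltered.cospan q₁ q₂
  obtain ⟨w, u₁, u₂, hu⟩ := IsCofiltered.cospan (r₁ ≫ q₁) g
  obtain ⟨q, hq⟩ : ∃ q, q = u₂ ≫ g := ⟨_, rfl⟩
  -- everything at the stage `w`
  have eq : D.map q ≫ D.map (a₁ ≫ a) = D.map (q ≫ a₁ ≫ a) := (D.map_comp q _).symm
  let pw : Red.bc (D.map (q ≫ a₁ ≫ a)) X ⟶ Red.bc (D.map q) Yi := (cmp eq X).inv ≫ (Over.pullback (D.map q)).map pi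
  haveI hpwf : Flat pw.left := by
    haveI : Flat ((Over.pullback (D.map q)).map pi).left := by
      rw [hq, ← hu, ← Category.assoc, map_conj (σ := D.map q₁) (D.map_comp (u₁ ≫ r₁) q₁).symm pi]
      rw [Over.comp_left, Over.comp_left]
      haveI := property_map_left @Flat _ (D.map (u₁ ≫ r₁)) hl₁
      haveI : IsIso (cmp (D.map_comp (u₁ ≫ r₁) q₁).symm (Red.bc (D.map (a₁ ≫ a)) X)).inv.left := isIso_left _
      haveI : IsIso (cmp (D.map_comp (u₁ ≫ r₁) q₁).symm Yi).hom.left := isIso_left _
      infer_instance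
    haveI : IsIso (cmp eq X).inv.left := isIso_left _
    rw [Over.comp_left]; infer_instance
  haveI hpws : Surjective pw.left := by
    haveI : Surjective ((Over.pullback (D.map q)).map pi).left := by
      rw [hq, ← hu, hr, ← Category.assoc, map_conj (σ := D.map q₂) (D.map_comp (u₁ ≫ r₂) q₂).symm pi]
      rw [Over.comp_left, Over.comp_left]
      haveI := property_map_left @Surjective _ (D.map (u₁ ≫ r₂)) hl₂
      haveI : IsIso (cmp (D.map_comp (u₁ ≫ r₂) q₂).symm (Red.bc (D.map (a₁ ≫ a)) X)).inv.left := isIso_left _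
      haveI : IsIso (cmp (D.map_comp (u₁ ≫ r₂) q₂).symm Yi).hom.left := isIso_left _
      infer_instance
    haveI : IsIso (cmp eq X).inv.left := isIso_left _
    rw [Over.comp_left]; infer_instance
  haveI hpwp : LocallyOfFinitePresentation pw.left := by
    haveI := property_map_left @LocallyOfFinitePresentation pi (D.map q) inferInstance
    haveI : IsIso (cmp eq X).inv.left := isIso_left _
    rw [Over.comp_left]; infer_instance
  have hw : (Over.pullback (D.map (q ≫ a₁ ≫ a))).map s ≫ pw = (Over.pullback (D.map (q ≫ a₁ ≫ a))).map t ≫ pw := by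
    have h5 := map_map_eq (D.map g) (D.map u₂) _ (D.map_comp u₂ g).symm hk
    rw [← hq] at h5
    simp only [pw, map_conj eq s, map_conj eq t, Category.assoc, Iso.hom_inv_id_assoc]
    rw [← Functor.map_comp, ← Functor.map_comp, h5]
  -- the square descends
  haveI : LocallyOfFinitePresentation (Red.bc (D.map (q ≫ a₁ ≫ a)) R).hom := MorphismProperty.pullback_snd _ _ inferInstance
  haveI : QuasiCompact (Red.bc (D.map (q ≫ a₁ ≫ a)) R).hom := MorphismProperty.pullback_snd _ _ inferInstance
  haveI : QuasiSeparated (Red.bc (D.map (q ≫ a₁ ≫ a)) R).hom := MorphismProperty.pullback_snd _ _ inferInstance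
  haveI : LocallyOfFinitePresentation (Red.bc (D.map (q ≫ a₁ ≫ a)) X).hom := MorphismProperty.pullback_snd _ _ inferInstance
  haveI : QuasiCompact (Red.bc (D.map (q ≫ a₁ ≫ a)) X).hom := MorphismProperty.pullback_snd _ _ inferInstance
  haveI : QuasiSeparated (Red.bc (D.map (q ≫ a₁ ≫ a)) X).hom := MorphismProperty.pullback_snd _ _ inferInstance
  haveI : QuasiCompact (Red.bc (D.map q) Yi).hom := MorphismProperty.pullback_snd _ _ inferInstance
  haveI : QuasiSeparated (Red.bc (D.map q) Yi).hom := MorphismProperty.pullback_snd _ _ inferInstance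
  haveI : QuasiCompact pw.left := by
    haveI : QuasiCompact (pw.left ≫ (Red.bc (D.map q) Yi).hom) := by rw [Over.w pw]; infer_instance
    exact QuasiCompact.of_comp pw.left (Red.bc (D.map q) Yi).hom
  haveI : QuasiSeparated pw.left := by
    haveI : QuasiSeparated (pw.left ≫ (Red.bc (D.map q) Yi).hom) := by rw [Over.w pw]; infer_instance
    exact QuasiSeparated.of_comp pw.left (Red.bc (D.map q) Yi).hom
  have hK := ((IsPullback.of_hasPullback pw pw).map (Over.forget _)).flip
  haveI : QuasiCompact (pullback pw pw).hom := by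
    rw [← Over.w (pullback.fst pw pw)]
    haveI : QuasiCompact (pullback.fst pw pw).left :=
      MorphismProperty.of_isPullback (P := @QuasiCompact) hK (show QuasiCompact pw.left from inferInstance)
    infer_instance
  haveI : QuasiSeparated (pullback pw pw).hom := by
    rw [← Over.w (pullback.fst pw pw)]
    haveI : QuasiSeparated (pullback.fst pw pw).left :=
      MorphismProperty.of_isPullback (P := @QuasiSeparated) hK (show QuasiSeparated pw.left from inferInstance)
    infer_instance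
  haveI : LocallyOfFinitePresentation (pullback pw pw).hom := by
    rw [← Over.w (pullback.fst pw pw)]
    haveI : LocallyOfFinitePresentation (pullback.fst pw pw).left :=
      MorphismProperty.of_isPullback (P := @LocallyOfFinitePresentation) hK
        (show LocallyOfFinitePresentation pw.left from inferInstance)
    infer_instance
  let cm := pullback.lift ((Over.pullback (D.map (q ≫ a₁ ≫ a))).map s) ((Over.pullback (D.map (q ≫ a₁ ≫ a))).map t) hw
  haveI : (Over.pullback (c.π.app w)).IsRightAdjoint := (Over.mapPullbackAdj _).isRightAdjoint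
  have hpb : IsPullback ((Over.pullback (c.π.app w)).map ((Over.pullback (D.map (q ≫ a₁ ≫ a))).map s))
      ((Over.pullback (c.π.app w)).map ((Over.pullback (D.map (q ≫ a₁ ≫ a))).map t))
      ((Over.pullback (c.π.app w)).map pw) ((Over.pullback (c.π.app w)).map pw) := by
    refine h4.of_iso (cmp (c.w (q ≫ a₁ ≫ a)) R).symm (cmp (c.w (q ≫ a₁ ≫ a)) X).symm
      (cmp (c.w (q ≫ a₁ ≫ a)) X).symm (θY.symm ≪≫ (cmp (c.w q) Yi).symm) ?_ ?_ ?_ ?_
    · simp only [Iso.symm_hom]
      rw [Iso.comp_inv_eq, Category.assoc, cmp_natural, Iso.inv_hom_id_assoc]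
    · simp only [Iso.symm_hom]
      rw [Iso.comp_inv_eq, Category.assoc, cmp_natural, Iso.inv_hom_id_assoc]
    all_goals
      show p ≫ θY.inv ≫ (cmp (c.w q) Yi).inv = (cmp (c.w (q ≫ a₁ ≫ a)) X).inv ≫ _
      rw [← cancel_epi (cmp (c.w (q ≫ a₁ ≫ a)) X).hom, Iso.hom_inv_id_assoc]
      rw [← cancel_mono (cmp (c.w q) Yi).hom, ← cancel_mono θY.hom]
      simp only [Category.assoc, Iso.inv_hom_id_assoc, Iso.inv_hom_id, Category.comp_id, pw, Functor.map_comp,
        reassoc_of% (cmp_natural (c.w q) pi), hθ.2]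
      rw [hθX, ← cmp_assoc eq (c.w q) (c.w (q ≫ a₁ ≫ a)) (c.w (a₁ ≫ a)) X]
      simp only [Category.assoc]
  haveI : IsIso ((Over.pullback (c.π.app w)).map cm) := by
    have h6 := (IsPullback.of_hasPullback pw pw).map (Over.pullback (c.π.app w))
    have e : (Over.pullback (c.π.app w)).map cm = (hpb.isoIsPullback _ _ h6).hom := by
      apply h6.hom_ext
      · rw [IsPullback.isoIsPullback_hom_fst, ← Functor.map_comp, pullback.lift_fst]
      · rw [IsPullback.isoIsPullback_hom_snd, ← Functor.map_comp, pullback.lift_snd]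
    rw [e]; infer_instance
  obtain ⟨z, d, hz⟩ := exists_isIso_stage D hc cm
  haveI := hz
  refine ⟨z, d ≫ q ≫ a₁ ≫ a, ?_⟩
  haveI : (Over.pullback (D.map d)).IsRightAdjoint := (Over.mapPullbackAdj _).isRightAdjoint
  have e := (D.map_comp d (q ≫ a₁ ≫ a)).symm
  haveI := property_map_left @Flat pw (D.map d) hpwf
  haveI := property_map_left @Surjective pw (D.map d) hpws
  haveI := property_map_left @LocallyOfFinitePresentation pw (D.map d) hpwp
  haveI : IsIso (cmp e X).inv.left := isIso_left _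
  refine ⟨_, (cmp e X).inv ≫ (Over.pullback (D.map d)).map pw, ?_, ?_, ?_, ?_⟩
  iterate 3 · rw [Over.comp_left]; infer_instance
  refine ((IsPullback.of_hasPullback pw pw).map (Over.pullback (D.map d))).of_iso
    ((asIso ((Over.pullback (D.map d)).map cm)).symm ≪≫ cmp e R) (cmp e X) (cmp e X) (Iso.refl _) ?_ ?_ ?_ ?_
  · show (Over.pullback (D.map d)).map (pullback.fst pw pw) ≫ (cmp e X).hom =
      (inv ((Over.pullback (D.map d)).map cm) ≫ (cmp e R).hom) ≫ _
    rw [Category.assoc, IsIso.eq_inv_comp, ← cmp_natural, ← Functor.map_comp_assoc, pullback.lift_fst]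
  · show (Over.pullback (D.map d)).map (pullback.snd pw pw) ≫ (cmp e X).hom =
      (inv ((Over.pullback (D.map d)).map cm) ≫ (cmp e R).hom) ≫ _
    rw [Category.assoc, IsIso.eq_inv_comp, ← cmp_natural, ← Functor.map_comp_assoc, pullback.lift_snd]
  · simp
  · simp

include hc in
theorem hasQuot_iff {j : I} (X R : Over (D.obj j))
    [LocallyOfFinitePresentation X.hom] [QuasiCompact X.hom] [QuasiSeparated X.hom]
    [LocallyOfFinitePresentation R.hom] [QuasiCompact R.hom] [QuasiSeparated R.hom] (s t : R ⟶ X) :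
    HasQuot (c.π.app j) s t ↔ ∃ (i : I) (f : i ⟶ j), HasQuot (D.map f) s t :=
  ⟨exists_hasQuot_stage D hc X R s t, fun ⟨_, f, h⟩ => h.push (c.w f)⟩

end Groth.Agent.GrpLimLib
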