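import Groth.Agent.GrpLimLib.Basic
import Groth.Agent.ConsPropLib.Approx
import Groth.Agent.ConsPropLib.NoethApprox

/-!
# Descent of group schemes of finite presentation along limits
-/

set_option autoImplicit false
set_option backward.isDefEq.respectTransparency false
set_option linter.style.haveILetI false

open CategoryTheory CategoryTheory.Limits MonoidalCategory CartesianMonoidalCategory MonObj AlgebraicGeometry

universe u

noncomputable section

namespace Groth.Agent.GrpLimLib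

section Ops

variable {C : Type*} [Category C] [CartesianMonoidalCategory C]

/-- Group operations without axioms. -/
structure Ops (X : C) where
  mul : X ⊗ X ⟶ X
  one : 𝟙_ C ⟶ X
  inv : X ⟶ X

/-- The product of two points. -/
abbrev Ops.pm {X : C} (o : Ops X) {T : C} (a b : T ⟶ X) : T ⟶ X := lift a b ≫ o.mul

/-- The unit point. -/
abbrev Ops.p1 {X : C} (o : Ops X) (T : C) : T ⟶ X := toUnit T ≫ o.one

/-- The axioms, on the universal points. -/
structure Ops.Lawful {X : C} (o : Ops X) : Prop where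
  assoc : o.pm (o.pm (fst (X ⊗ X) X ≫ fst X X) (fst (X ⊗ X) X ≫ snd X X)) (snd (X ⊗ X) X) =
    o.pm (fst (X ⊗ X) X ≫ fst X X) (o.pm (fst (X ⊗ X) X ≫ snd X X) (snd (X ⊗ X) X))
  one_mul : o.pm (o.p1 X) (𝟙 X) = 𝟙 X
  mul_one : o.pm (𝟙 X) (o.p1 X) = 𝟙 X
  inv_mul : o.pm o.inv (𝟙 X) = o.p1 X
  mul_inv : o.pm (𝟙 X) o.inv = o.p1 X

theorem Ops.comp_pm {X : C} (o : Ops X) {T T' : C} (s : T' ⟶ T) (a b : T ⟶ X) :
    s ≫ o.pm a b = o.pm (s ≫ a) (s ≫ b) := by rw [← Category.assoc, comp_lift]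

theorem Ops.comp_p1 {X : C} (o : Ops X) {T T' : C} (s : T' ⟶ T) : s ≫ o.p1 T = o.p1 T' := by
  rw [← Category.assoc, comp_toUnit]

/-- The monoid of lawful operations. -/
@[reducible] def Ops.monObj {X : C} (o : Ops X) (h : o.Lawful) : MonObj X where
  one := o.one
  mul := o.mul
  one_mul := by
    rw [show o.one ▷ X = (λ_ X).hom ≫ lift (o.p1 X) (𝟙 X) by
      apply CartesianMonoidalCategory.hom_ext
      · simp only [Category.assoc, lift_fst, whiskerRight_fst]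
        rw [← Category.assoc, toUnit_unique ((λ_ X).hom ≫ toUnit X) (fst _ _)]
      · simp only [Category.assoc, lift_snd, whiskerRight_snd, Category.comp_id, leftUnitor_hom],
      Category.assoc]
    exact (congrArg ((λ_ X).hom ≫ ·) h.one_mul).trans (Category.comp_id _)
  mul_one := by
    rw [show X ◁ o.one = (ρ_ X).hom ≫ lift (𝟙 X) (o.p1 X) by
      apply CartesianMonoidalCategory.hom_ext
      · simp only [Category.assoc, lift_fst, whiskerLeft_fst, Category.comp_id, rightUnitor_hom]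
      · simp only [Category.assoc, lift_snd, whiskerLeft_snd]
        rw [← Category.assoc, toUnit_unique ((ρ_ X).hom ≫ toUnit X) (snd _ _)],
      Category.assoc]
    exact (congrArg ((ρ_ X).hom ≫ ·) h.mul_one).trans (Category.comp_id _)
  mul_assoc := by
    refine Eq.trans (congrArg (· ≫ o.mul) ?_) (h.assoc.trans ((congrArg (· ≫ o.mul) ?_).trans (Category.assoc _ _ _)))
    · apply CartesianMonoidalCategory.hom_ext
      · rw [lift_fst, whiskerRight_fst]
        show _ = lift _ _ ≫ o.mul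
        rw [← comp_lift, lift_fst_snd, Category.comp_id]
      · rw [lift_snd, whiskerRight_snd]
    · apply CartesianMonoidalCategory.hom_ext
      · rw [lift_fst, Category.assoc, whiskerLeft_fst, associator_hom_fst]
      · rw [lift_snd, Category.assoc, whiskerLeft_snd, ← Category.assoc _ _ o.mul]
        show lift _ _ ≫ o.mul = _
        congr 1
        apply CartesianMonoidalCategory.hom_ext
        · rw [lift_fst, Category.assoc, associator_hom_snd_fst]
        · rw [lift_snd, Category.assoc, associator_hom_snd_snd]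

/-- The group of lawful operations. -/
@[reducible] def Ops.grpObj {X : C} (o : Ops X) (h : o.Lawful) : GrpObj X :=
  letI := o.monObj h
  { inv := o.inv
    left_inv := h.inv_mul
    right_inv := h.mul_inv }

variable {D : Type*} [Category D] [CartesianMonoidalCategory D] (F : C ⥤ D) [F.Monoidal]

/-- The image of operations. -/
def Ops.map {X : C} (o : Ops X) : Ops (F.obj X) where
  mul := Functor.LaxMonoidal.μ F X X ≫ F.map o.mul
  one := Functor.LaxMonoidal.ε F ≫ F.map o.one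
  inv := F.map o.inv

theorem lift_μ' {T X Y : C} (a : T ⟶ X) (b : T ⟶ Y) :
    lift (F.map a) (F.map b) ≫ Functor.LaxMonoidal.μ F X Y = F.map (lift a b) := by
  rw [← cancel_mono (Functor.OplaxMonoidal.δ F X Y), Category.assoc, Functor.Monoidal.μ_δ, Category.comp_id]
  apply CartesianMonoidalCategory.hom_ext
  · rw [lift_fst, Category.assoc, Functor.OplaxMonoidal.δ_fst, ← F.map_comp, lift_fst]
  · rw [lift_snd, Category.assoc, Functor.OplaxMonoidal.δ_snd, ← F.map_comp, lift_snd]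

theorem map_toUnit' (T : C) : F.map (toUnit T) = toUnit (F.obj T) ≫ Functor.LaxMonoidal.ε F := by
  rw [← cancel_mono (Functor.OplaxMonoidal.η F)]
  exact toUnit_unique _ _

theorem Ops.map_pm {X : C} (o : Ops X) {T : C} (a b : T ⟶ X) :
    F.map (o.pm a b) = (o.map F).pm (F.map a) (F.map b) := by
  show _ = lift _ _ ≫ Functor.LaxMonoidal.μ F X X ≫ F.map o.mul
  rw [F.map_comp, ← Category.assoc, lift_μ']

theorem Ops.map_p1 {X : C} (o : Ops X) (T : C) : F.map (o.p1 T) = (o.map F).p1 (F.obj T) := by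
  rw [F.map_comp, map_toUnit', Category.assoc]
  rfl

/-- Operations with images of axioms. -/
theorem Ops.lawful_map {X : C} (o : Ops X)
    (h1 : F.map (o.pm (o.pm (fst (X ⊗ X) X ≫ fst X X) (fst (X ⊗ X) X ≫ snd X X)) (snd (X ⊗ X) X)) =
      F.map (o.pm (fst (X ⊗ X) X ≫ fst X X) (o.pm (fst (X ⊗ X) X ≫ snd X X) (snd (X ⊗ X) X))))
    (h2 : F.map (o.pm (o.p1 X) (𝟙 X)) = F.map (𝟙 X)) (h3 : F.map (o.pm (𝟙 X) (o.p1 X)) = F.map (𝟙 X))
    (h4 : F.map (o.pm o.inv (𝟙 X)) = F.map (o.p1 X)) (h5 : F.map (o.pm (𝟙 X) o.inv) = F.map (o.p1 X)) :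
    (o.map F).Lawful := by
  refine ⟨?_, ?_, ?_, ?_, ?_⟩
  · let q : (F.obj X ⊗ F.obj X) ⊗ F.obj X ⟶ F.obj ((X ⊗ X) ⊗ X) :=
      (Functor.LaxMonoidal.μ F X X ▷ F.obj X) ≫ Functor.LaxMonoidal.μ F (X ⊗ X) X
    have q1 : q ≫ F.map (fst (X ⊗ X) X ≫ fst X X) = fst _ _ ≫ fst _ _ := by
      rw [F.map_comp, Category.assoc, Functor.Monoidal.μ_fst_assoc, whiskerRight_fst_assoc, Functor.Monoidal.μ_fst]
    have q2 : q ≫ F.map (fst (X ⊗ X) X ≫ snd X X) = fst _ _ ≫ snd _ _ := by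
      rw [F.map_comp, Category.assoc, Functor.Monoidal.μ_fst_assoc, whiskerRight_fst_assoc, Functor.Monoidal.μ_snd]
    have q3 : q ≫ F.map (snd (X ⊗ X) X) = snd _ _ := by
      rw [Category.assoc, Functor.Monoidal.μ_snd, whiskerRight_snd]
    have h := congrArg (q ≫ ·) h1
    simp only [Ops.map_pm, Ops.comp_pm, q1, q2, q3] at h
    exact h
  · simpa only [Ops.map_pm, Ops.map_p1, F.map_id] using h2
  · simpa only [Ops.map_pm, Ops.map_p1, F.map_id] using h3
  · simp only [Ops.map_pm, Ops.map_p1, F.map_id] at h4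
    exact h4
  · simp only [Ops.map_pm, Ops.map_p1, F.map_id] at h5
    exact h5

end Ops

section Cmp

variable {S S' S'' : Scheme.{u}} {g : S' ⟶ S} {h : S'' ⟶ S'} {k : S'' ⟶ S}

theorem cmp_natural (e : h ≫ g = k) {P Q : Over S} (p : P ⟶ Q) :
    (Over.pullback h).map ((Over.pullback g).map p) ≫ (cmp e Q).hom = (cmp e P).hom ≫ (Over.pullback k).map p := by
  apply hom_ext₁
  simp only [Over.comp_left, Category.assoc, cmp_hom_fst]
  rw [map_left_fst, reassoc_of% (cmp_hom_fst e P)]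
  simp only [pr, Category.assoc]
  rw [reassoc_of% (map_left_fst (h := h) ((Over.pullback g).map p)), map_left_fst]

theorem cmp_tensor (e : h ≫ g = k) (P Q : Over S) :
    Functor.LaxMonoidal.μ (Over.pullback h) _ _ ≫ (Over.pullback h).map (Functor.LaxMonoidal.μ (Over.pullback g) P Q) ≫
      (cmp e (P ⊗ Q)).hom =
      ((cmp e P).hom ⊗ₘ (cmp e Q).hom) ≫ Functor.LaxMonoidal.μ (Over.pullback k) P Q := by
  rw [← cancel_mono (Functor.OplaxMonoidal.δ (Over.pullback k) P Q)]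
  apply CartesianMonoidalCategory.hom_ext
  · simp only [Category.assoc, Functor.OplaxMonoidal.δ_fst, Functor.Monoidal.μ_fst, tensorHom_fst]
    rw [← cmp_natural, ← Functor.map_comp_assoc, Functor.Monoidal.μ_fst, Functor.Monoidal.μ_fst_assoc]
  · simp only [Category.assoc, Functor.OplaxMonoidal.δ_snd, Functor.Monoidal.μ_snd, tensorHom_snd]
    rw [← cmp_natural, ← Functor.map_comp_assoc, Functor.Monoidal.μ_snd, Functor.Monoidal.μ_snd_assoc]

theorem cmp_unit (e : h ≫ g = k) :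
    Functor.LaxMonoidal.ε (Over.pullback h) ≫ (Over.pullback h).map (Functor.LaxMonoidal.ε (Over.pullback g)) ≫
      (cmp e (𝟙_ (Over S))).hom = Functor.LaxMonoidal.ε (Over.pullback k) := by
  rw [← cancel_mono (Functor.OplaxMonoidal.η (Over.pullback k))]
  exact toUnit_unique _ _

end Cmp

variable {I : Type u} [SmallCategory I] [IsCofiltered I] {D : I ⥤ Scheme.{u}} {c : Cone D} (hc : IsLimit c)
  [∀ (i i' : I) (f : i ⟶ i'), IsAffineHom (D.map f)] [∀ i, CompactSpace (D.obj i)]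
  [∀ i, QuasiSeparatedSpace (D.obj i)]

/-- A model of the underlying scheme at a stage. -/
structure Stage (G : Over c.pt) where
  i : I
  X : Over (D.obj i)
  e : Red.bc (c.π.app i) X ≅ G
  lfp : LocallyOfFinitePresentation X.hom
  qc : QuasiCompact X.hom
  qs : QuasiSeparated X.hom

variable {G : Over c.pt} (s : Stage G)

/-- A later stage. -/
def Stage.push {i' : I} (g : i' ⟶ s.i) : Stage G where
  i := i'
  X := Red.bc (D.map g) s.X
  e := cmp (c.w g) s.X ≪≫ s.e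
  lfp := by
    haveI := s.lfp
    exact inferInstanceAs (LocallyOfFinitePresentation (pullback.snd s.X.hom (D.map g)))
  qc := by
    haveI := s.qc
    exact inferInstanceAs (QuasiCompact (pullback.snd s.X.hom (D.map g)))
  qs := by
    haveI := s.qs
    exact inferInstanceAs (QuasiSeparated (pullback.snd s.X.hom (D.map g)))

variable [GrpObj G]

/-- The multiplication is the given one. -/
def Stage.MulSpec (m : s.X ⊗ s.X ⟶ s.X) : Prop :=
  Functor.LaxMonoidal.μ (Over.pullback (c.π.app s.i)) _ _ ≫ (Over.pullback (c.π.app s.i)).map m ≫ s.e.hom =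
    (s.e.hom ⊗ₘ s.e.hom) ≫ μ[G]

/-- The unit is the given one. -/
def Stage.OneSpec (n : 𝟙_ (Over (D.obj s.i)) ⟶ s.X) : Prop :=
  Functor.LaxMonoidal.ε (Over.pullback (c.π.app s.i)) ≫ (Over.pullback (c.π.app s.i)).map n ≫ s.e.hom = η[G]

/-- The inverse is the given one. -/
def Stage.InvSpec (v : s.X ⟶ s.X) : Prop :=
  (Over.pullback (c.π.app s.i)).map v ≫ s.e.hom = s.e.hom ≫ GrpObj.inv

theorem Stage.MulSpec.push {m : s.X ⊗ s.X ⟶ s.X} (h : s.MulSpec m) {i' : I} (g : i' ⟶ s.i) :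
    (s.push g).MulSpec (Functor.LaxMonoidal.μ (Over.pullback (D.map g)) _ _ ≫ (Over.pullback (D.map g)).map m) := by
  show Functor.LaxMonoidal.μ (Over.pullback (c.π.app i')) _ _ ≫ (Over.pullback (c.π.app i')).map _ ≫
    (cmp (c.w g) s.X).hom ≫ s.e.hom = (((cmp (c.w g) s.X).hom ≫ s.e.hom) ⊗ₘ ((cmp (c.w g) s.X).hom ≫ s.e.hom)) ≫ μ[G]
  rw [← tensorHom_comp_tensorHom, Category.assoc, Functor.map_comp, Category.assoc,
    reassoc_of% (cmp_natural (c.w g) m), reassoc_of% (cmp_tensor (c.w g) s.X s.X), h]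

theorem Stage.OneSpec.push {n : 𝟙_ (Over (D.obj s.i)) ⟶ s.X} (h : s.OneSpec n) {i' : I} (g : i' ⟶ s.i) :
    (s.push g).OneSpec (Functor.LaxMonoidal.ε (Over.pullback (D.map g)) ≫ (Over.pullback (D.map g)).map n) := by
  show Functor.LaxMonoidal.ε (Over.pullback (c.π.app i')) ≫ (Over.pullback (c.π.app i')).map _ ≫
    (cmp (c.w g) s.X).hom ≫ s.e.hom = _
  rw [Functor.map_comp, Category.assoc, reassoc_of% (cmp_natural (c.w g) n), reassoc_of% (cmp_unit (c.w g)), h]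

theorem Stage.InvSpec.push {v : s.X ⟶ s.X} (h : s.InvSpec v) {i' : I} (g : i' ⟶ s.i) :
    (s.push g).InvSpec ((Over.pullback (D.map g)).map v) := by
  show (Over.pullback (c.π.app i')).map _ ≫ (cmp (c.w g) s.X).hom ≫ s.e.hom =
    ((cmp (c.w g) s.X).hom ≫ s.e.hom) ≫ GrpObj.inv
  rw [reassoc_of% (cmp_natural (c.w g) v), h, Category.assoc]

omit [GrpObj G] in
theorem Stage.tensor_props : QuasiCompact (s.X ⊗ s.X).hom ∧ QuasiSeparated (s.X ⊗ s.X).hom := by
  haveI := s.qc; haveI := s.qs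
  exact ⟨inferInstanceAs (QuasiCompact (pullback.fst s.X.hom s.X.hom ≫ s.X.hom)),
    inferInstanceAs (QuasiSeparated (pullback.fst s.X.hom s.X.hom ≫ s.X.hom))⟩

include hc in
theorem Stage.exists_mul : ∃ (i' : I) (g : i' ⟶ s.i) (m : _), (s.push g).MulSpec m := by
  haveI := s.lfp
  obtain ⟨_, _⟩ := s.tensor_props
  obtain ⟨i', g, ui, hu⟩ := exists_map_fst_eq D hc (P := s.X ⊗ s.X) (Q := s.X)
    (Functor.OplaxMonoidal.δ (Over.pullback (c.π.app s.i)) _ _ ≫ (s.e.hom ⊗ₘ s.e.hom) ≫ μ[G] ≫ s.e.inv)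
  refine ⟨i', g, Functor.LaxMonoidal.μ (Over.pullback (D.map g)) _ _ ≫ ui, ?_⟩
  show Functor.LaxMonoidal.μ (Over.pullback (c.π.app i')) _ _ ≫ (Over.pullback (c.π.app i')).map _ ≫
    (cmp (c.w g) s.X).hom ≫ s.e.hom = (((cmp (c.w g) s.X).hom ≫ s.e.hom) ⊗ₘ ((cmp (c.w g) s.X).hom ≫ s.e.hom)) ≫ μ[G]
  rw [← tensorHom_comp_tensorHom, Category.assoc, Functor.map_comp, Category.assoc, hu]
  simp only [Category.assoc, Iso.inv_hom_id_assoc, Iso.inv_hom_id, Category.comp_id]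
  rw [reassoc_of% (cmp_tensor (c.w g) s.X s.X), Functor.Monoidal.μ_δ_assoc]

include hc in
theorem Stage.exists_one : ∃ (i' : I) (g : i' ⟶ s.i) (n : _), (s.push g).OneSpec n := by
  haveI := s.lfp
  haveI : QuasiCompact (𝟙_ (Over (D.obj s.i))).hom := inferInstanceAs (QuasiCompact (𝟙 (D.obj s.i)))
  haveI : QuasiSeparated (𝟙_ (Over (D.obj s.i))).hom := inferInstanceAs (QuasiSeparated (𝟙 (D.obj s.i)))
  obtain ⟨i', g, ui, hu⟩ := exists_map_fst_eq D hc (P := 𝟙_ _) (Q := s.X)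
    (Functor.OplaxMonoidal.η (Over.pullback (c.π.app s.i)) ≫ η[G] ≫ s.e.inv)
  refine ⟨i', g, Functor.LaxMonoidal.ε (Over.pullback (D.map g)) ≫ ui, ?_⟩
  show Functor.LaxMonoidal.ε (Over.pullback (c.π.app i')) ≫ (Over.pullback (c.π.app i')).map _ ≫
    (cmp (c.w g) s.X).hom ≫ s.e.hom = _
  rw [Functor.map_comp, Category.assoc, hu]
  simp only [Category.assoc, Iso.inv_hom_id_assoc, Iso.inv_hom_id, Category.comp_id]
  rw [reassoc_of% (cmp_unit (c.w g)), Functor.Monoidal.ε_η_assoc]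

include hc in
theorem Stage.exists_inv : ∃ (i' : I) (g : i' ⟶ s.i) (v : _), (s.push g).InvSpec v := by
  haveI := s.lfp; haveI := s.qc; haveI := s.qs
  obtain ⟨i', g, ui, hu⟩ := exists_map_fst_eq D hc (P := s.X) (Q := s.X) (s.e.hom ≫ GrpObj.inv ≫ s.e.inv)
  refine ⟨i', g, ui, ?_⟩
  show (Over.pullback (c.π.app i')).map _ ≫ (cmp (c.w g) s.X).hom ≫ s.e.hom =
    ((cmp (c.w g) s.X).hom ≫ s.e.hom) ≫ GrpObj.inv
  rw [hu]
  simp only [Category.assoc, Iso.inv_hom_id_assoc, Iso.inv_hom_id, Category.comp_id]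

/-- All operations are the given ones. -/
def Stage.Spec (o : Ops s.X) : Prop := s.MulSpec o.mul ∧ s.OneSpec o.one ∧ s.InvSpec o.inv

theorem Stage.Spec.push {o : Ops s.X} (h : s.Spec o) {i' : I} (g : i' ⟶ s.i) :
    (s.push g).Spec (o.map (Over.pullback (D.map g))) :=
  ⟨h.1.push s g, h.2.1.push s g, h.2.2.push s g⟩

section Eval

variable {o : Ops s.X} (h : s.Spec o) {T : Over (D.obj s.i)}

include h in
theorem Stage.Spec.eval_pm (a b : T ⟶ s.X) :
    (Over.pullback (c.π.app s.i)).map (o.pm a b) ≫ s.e.hom =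
      ((Over.pullback (c.π.app s.i)).map a ≫ s.e.hom) * ((Over.pullback (c.π.app s.i)).map b ≫ s.e.hom) := by
  have h1 : Functor.LaxMonoidal.μ (Over.pullback (c.π.app s.i)) _ _ ≫
    (Over.pullback (c.π.app s.i)).map o.mul ≫ s.e.hom = (s.e.hom ⊗ₘ s.e.hom) ≫ μ[G] := h.1
  rw [Functor.map_comp, ← lift_μ', Category.assoc, Category.assoc, h1, ← Category.assoc, lift_map, ← Hom.mul_def]

include h in
theorem Stage.Spec.eval_one :
    (Over.pullback (c.π.app s.i)).map (o.p1 T) ≫ s.e.hom = 1 := by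
  have h1 : Functor.LaxMonoidal.ε (Over.pullback (c.π.app s.i)) ≫
    (Over.pullback (c.π.app s.i)).map o.one ≫ s.e.hom = η[G] := h.2.1
  rw [Functor.map_comp, map_toUnit', Category.assoc, Category.assoc, h1, Hom.one_def]

include h in
theorem Stage.Spec.eval_inv :
    (Over.pullback (c.π.app s.i)).map o.inv ≫ s.e.hom =
      ((Over.pullback (c.π.app s.i)).map (𝟙 s.X) ≫ s.e.hom)⁻¹ := by
  erw [CategoryTheory.Functor.map_id, Category.id_comp]
  exact h.2.2

end Eval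

include hc in
/-- One equation holds at a later stage. -/
theorem Stage.exists_eq {T : Over (D.obj s.i)} [QuasiCompact T.hom] [QuasiSeparated T.hom] (a b : T ⟶ s.X)
    (hab : (Over.pullback (c.π.app s.i)).map a ≫ s.e.hom = (Over.pullback (c.π.app s.i)).map b ≫ s.e.hom) :
    ∃ (i' : I) (g : i' ⟶ s.i), (Over.pullback (D.map g)).map a = (Over.pullback (D.map g)).map b := by
  haveI := s.lfp
  exact exists_map_eq D hc a b ((cancel_mono _).mp hab)

theorem map_map_eq {A B E : Scheme.{u}} (g₁ : B ⟶ A) (g₂ : E ⟶ B) (g : E ⟶ A) (e : g₂ ≫ g₁ = g) {P Q : Over A}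
    {a b : P ⟶ Q} (h : (Over.pullback g₁).map a = (Over.pullback g₁).map b) :
    (Over.pullback g).map a = (Over.pullback g).map b := by
  rw [← cancel_epi (cmp e P).hom, ← cmp_natural, ← cmp_natural, h]

include hc in
/-- The operations are lawful at a later stage. -/
theorem Stage.exists_lawful {o : Ops s.X} (h : s.Spec o) :
    ∃ (i' : I) (g : i' ⟶ s.i), (o.map (Over.pullback (D.map g))).Lawful := by
  haveI := s.qc; haveI := s.qs
  obtain ⟨_, _⟩ := s.tensor_props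
  haveI : QuasiCompact ((s.X ⊗ s.X) ⊗ s.X).hom :=
    inferInstanceAs (QuasiCompact (pullback.fst (s.X ⊗ s.X).hom s.X.hom ≫ (s.X ⊗ s.X).hom))
  haveI : QuasiSeparated ((s.X ⊗ s.X) ⊗ s.X).hom :=
    inferInstanceAs (QuasiSeparated (pullback.fst (s.X ⊗ s.X).hom s.X.hom ≫ (s.X ⊗ s.X).hom))
  obtain ⟨i₁, g₁, e₁⟩ := s.exists_eq hc
    (o.pm (o.pm (fst (s.X ⊗ s.X) s.X ≫ fst s.X s.X) (fst (s.X ⊗ s.X) s.X ≫ snd s.X s.X)) (snd (s.X ⊗ s.X) s.X))
    (o.pm (fst (s.X ⊗ s.X) s.X ≫ fst s.X s.X) (o.pm (fst (s.X ⊗ s.X) s.X ≫ snd s.X s.X) (snd (s.X ⊗ s.X) s.X)))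
    (by rw [h.eval_pm, h.eval_pm, h.eval_pm, h.eval_pm, _root_.mul_assoc])
  obtain ⟨i₂, g₂, e₂⟩ := s.exists_eq hc (o.pm (o.p1 s.X) (𝟙 s.X)) (𝟙 s.X)
    (by rw [h.eval_pm, h.eval_one, _root_.one_mul])
  obtain ⟨i₃, g₃, e₃⟩ := s.exists_eq hc (o.pm (𝟙 s.X) (o.p1 s.X)) (𝟙 s.X)
    (by rw [h.eval_pm, h.eval_one, _root_.mul_one])
  obtain ⟨i₄, g₄, e₄⟩ := s.exists_eq hc (o.pm o.inv (𝟙 s.X)) (o.p1 s.X)
    (by rw [h.eval_pm, h.eval_inv, h.eval_one, inv_mul_cancel])
  obtain ⟨i₅, g₅, e₅⟩ := s.exists_eq hc (o.pm (𝟙 s.X) o.inv) (o.p1 s.X)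
    (by rw [h.eval_pm, h.eval_inv, h.eval_one, mul_inv_cancel])
  let J := fun b : Fin 5 => match b with
    | 0 => (⟨i₁, g₁⟩ : Σ i' : I, i' ⟶ s.i)
    | 1 => ⟨i₂, g₂⟩
    | 2 => ⟨i₃, g₃⟩
    | 3 => ⟨i₄, g₄⟩
    | 4 => ⟨i₅, g₅⟩
  classical
  obtain ⟨O, hO, hOeq⟩ := IsCofiltered.inf_exists (C := I)
    ({s.i, i₁, i₂, i₃, i₄, i₅} : Finset I)
    ({⟨i₁, s.i, by simp, by simp, g₁⟩, ⟨i₂, s.i, by simp, by simp, g₂⟩, ⟨i₃, s.i, by simp, by simp, g₃⟩,
      ⟨i₄, s.i, by simp, by simp, g₄⟩, ⟨i₅, s.i, by simp, by simp, g₅⟩} :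
      Finset (Σ' (X Y : I) (_ : X ∈ ({s.i, i₁, i₂, i₃, i₄, i₅} : Finset I))
        (_ : Y ∈ ({s.i, i₁, i₂, i₃, i₄, i₅} : Finset I)), X ⟶ Y))
  have t : ∀ {i₀ : I} (g₀ : i₀ ⟶ s.i) (hi : i₀ ∈ ({s.i, i₁, i₂, i₃, i₄, i₅} : Finset I)),
      (⟨i₀, s.i, hi, by simp, g₀⟩ : Σ' (X Y : I) (_ : X ∈ ({s.i, i₁, i₂, i₃, i₄, i₅} : Finset I))
        (_ : Y ∈ ({s.i, i₁, i₂, i₃, i₄, i₅} : Finset I)), X ⟶ Y) ∈ ({⟨i₁, s.i, by simp, by simp, g₁⟩,
        ⟨i₂, s.i, by simp, by simp, g₂⟩, ⟨i₃, s.i, by simp, by simp, g₃⟩,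
      ⟨i₄, s.i, by simp, by simp, g₄⟩, ⟨i₅, s.i, by simp, by simp, g₅⟩} :
      Finset (Σ' (X Y : I) (_ : X ∈ ({s.i, i₁, i₂, i₃, i₄, i₅} : Finset I))
        (_ : Y ∈ ({s.i, i₁, i₂, i₃, i₄, i₅} : Finset I)), X ⟶ Y)) →
      D.map (hO hi) ≫ D.map g₀ = D.map (hO (by simp : s.i ∈ ({s.i, i₁, i₂, i₃, i₄, i₅} : Finset I))) := by
    intro i₀ g₀ hi hm
    rw [← D.map_comp, hOeq hi (by simp) hm]
  exact ⟨O, hO (by simp), o.lawful_map _
    (map_map_eq _ _ _ (t g₁ (by simp) (by simp)) e₁) (map_map_eq _ _ _ (t g₂ (by simp) (by simp)) e₂)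
    (map_map_eq _ _ _ (t g₃ (by simp) (by simp)) e₃) (map_map_eq _ _ _ (t g₄ (by simp) (by simp)) e₄)
    (map_map_eq _ _ _ (t g₅ (by simp) (by simp)) e₅)⟩

include hc in
/-- A group scheme of finite presentation over a limit descends to a stage. -/
theorem exists_grp_model [LocallyOfFinitePresentation G.hom] [QuasiCompact G.hom] [QuasiSeparated G.hom]
    (hm : ConsPropLib.HasModel (D := D) (c := c) G.hom) :
    ∃ (j : I) (Gj : Over (D.obj j)) (_ : GrpObj Gj) (e : G ≅ Red.bc (c.π.app j) Gj),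
      IsMonHom e.hom ∧ LocallyOfFinitePresentation Gj.hom ∧ QuasiCompact Gj.hom ∧ QuasiSeparated Gj.hom := by
  obtain ⟨i, Xi, fi, g, hg⟩ := hm
  let s₀ : Stage G :=
    { i := i
      X := Over.mk fi
      e := (Over.isoMk hg.sq.isoPullback hg.sq.isoPullback_hom_snd).symm
      lfp := hg.lfp
      qc := hg.qc
      qs := hg.qs }
  obtain ⟨i₁, g₁, m, hm⟩ := s₀.exists_mul hc
  obtain ⟨i₂, g₂, n, hn⟩ := (s₀.push g₁).exists_one hc
  obtain ⟨i₃, g₃, v, hv⟩ := ((s₀.push g₁).push g₂).exists_inv hc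
  let s := (((s₀.push g₁).push g₂).push g₃)
  let o : Ops s.X :=
    ⟨Functor.LaxMonoidal.μ (Over.pullback (D.map g₃)) _ _ ≫ (Over.pullback (D.map g₃)).map
        (Functor.LaxMonoidal.μ (Over.pullback (D.map g₂)) _ _ ≫ (Over.pullback (D.map g₂)).map m),
      Functor.LaxMonoidal.ε (Over.pullback (D.map g₃)) ≫ (Over.pullback (D.map g₃)).map n, v⟩
  have ho : s.Spec o := ⟨(hm.push _ g₂).push _ g₃, hn.push _ g₃, hv⟩
  obtain ⟨i', g', hlaw⟩ := s.exists_lawful hc ho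
  let s' := s.push g'
  letI : GrpObj s'.X := (o.map (Over.pullback (D.map g'))).grpObj hlaw
  have hs : s'.Spec (o.map (Over.pullback (D.map g'))) := ho.push s g'
  haveI : IsMonHom s'.e.hom := by
    refine ⟨?_, ?_⟩
    · refine (Category.assoc _ _ _).trans ?_
      exact hs.2.1
    · refine (Category.assoc _ _ _).trans ?_
      exact hs.1
  exact ⟨s'.i, s'.X, inferInstance, s'.e.symm, inferInstanceAs (IsMonHom s'.e.inv), s'.lfp, s'.qc, s'.qs⟩

end Groth.Agent.GrpLimLib
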