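import Groth.Agent.GrpLimLib.Descend
import Groth.Agent.GrpLimLib.QuotDesc
import Groth.Agent.MorLib.DescendCI
import Groth.Agent.ConsPropLib.Approx

/-! Closed subgroup schemes over a limit descend to a stage. -/

set_option autoImplicit false
set_option backward.isDefEq.respectTransparency false
set_option linter.style.haveILetI false

universe u

open CategoryTheory CategoryTheory.Limits MonoidalCategory CartesianMonoidalCategory AlgebraicGeometry MonObj
open scoped CategoryTheory.Obj

namespace Groth.Agent.GrpLimLib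

variable {I : Type u} [SmallCategory I] [IsCofiltered I] (D : I ⥤ Scheme.{u}) {c : Cone D}

theorem isPullback_map_left' {A B : Scheme.{u}} {X Y : Over A} (h : X ⟶ Y) (σ : B ⟶ A) :
    IsPullback (pullback.fst X.hom σ) ((Over.pullback σ).map h).left h.left (pullback.fst Y.hom σ) := by
  refine IsPullback.of_bot ?_ (map_left_fst h).symm (IsPullback.of_hasPullback Y.hom σ)
  rw [show ((Over.pullback σ).map h).left ≫ pullback.snd Y.hom σ = pullback.snd X.hom σ from pullback.lift_snd _ _ _,
    Over.w h]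
  exact IsPullback.of_hasPullback X.hom σ

/-- Transport of a morphism at a stage to a later stage. -/
theorem push_spec {k a a' : I} (f : a ⟶ k) (g : a' ⟶ a) {P Q : Over (D.obj k)}
    (u : Red.bc (D.map f) P ⟶ Red.bc (D.map f) Q) {z : (Red.bc (c.π.app k) P).left ⟶ Q.left}
    (hu : (cmp (c.w f) P).inv.left ≫ pullback.fst (Red.bc (D.map f) P).hom (c.π.app a) ≫ u.left ≫
      pullback.fst Q.hom (D.map f) = z) :
    (cmp (c.w (g ≫ f)) P).inv.left ≫ pullback.fst (Red.bc (D.map (g ≫ f)) P).hom (c.π.app a') ≫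
      ((cmp (D.map_comp g f).symm P).inv ≫ (Over.pullback (D.map g)).map u ≫ (cmp (D.map_comp g f).symm Q).hom).left ≫
      pullback.fst Q.hom (D.map (g ≫ f)) = z := by
  rw [← hu]
  simp only [Over.comp_left, Category.assoc, cmp_hom_fst]
  show (cmp (c.w (g ≫ f)) P).inv.left ≫ _ ≫ (cmp (D.map_comp g f).symm P).inv.left ≫
    ((Over.pullback (D.map g)).map u).left ≫ pullback.fst (Red.bc (D.map f) Q).hom (D.map g) ≫ _ = _
  rw [reassoc_of% (map_left_fst (h := D.map g) u)]
  simp only [← Category.assoc]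
  congr 2
  refine pullback.hom_ext ?_ ?_
  · simp only [Category.assoc]
    refine Eq.trans ?_ (cmp_inv_fst (c.w f) P).symm
    refine Eq.trans ?_ (cmp_inv_fst (c.w (g ≫ f)) P)
    exact congrArg (fun m => (cmp (c.w (g ≫ f)) P).inv.left ≫ pullback.fst _ _ ≫ m)
      (cmp_inv_fst (D.map_comp g f).symm P)
  · simp only [Category.assoc]
    have h1 : pullback.fst (Red.bc (D.map f) P).hom (D.map g) ≫ (Red.bc (D.map f) P).hom =
        (Red.bc (D.map g) (Red.bc (D.map f) P)).hom ≫ D.map g := pullback.condition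
    have h2 : pullback.fst (Red.bc (D.map (g ≫ f)) P).hom (c.π.app a') ≫ (Red.bc (D.map (g ≫ f)) P).hom =
        (Red.bc (c.π.app a') (Red.bc (D.map (g ≫ f)) P)).hom ≫ c.π.app a' := pullback.condition
    have h3 : pullback.fst (Red.bc (D.map f) P).hom (c.π.app a) ≫ (Red.bc (D.map f) P).hom =
        (Red.bc (c.π.app a) (Red.bc (D.map f) P)).hom ≫ c.π.app a := pullback.condition
    show _ ≫ _ ≫ _ ≫ _ ≫ (Red.bc (D.map f) P).hom = _ ≫ _ ≫ (Red.bc (D.map f) P).hom
    rw [h1, h3, reassoc_of% (Over.w (cmp (D.map_comp g f).symm P).inv), reassoc_of% h2,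
      reassoc_of% (Over.w (cmp (c.w (g ≫ f)) P).inv), reassoc_of% (Over.w (cmp (c.w f) P).inv), c.w]

variable (hc : IsLimit c) [∀ (i i' : I) (f : i ⟶ i'), IsAffineHom (D.map f)] [∀ i, CompactSpace (D.obj i)]
  [∀ i, QuasiSeparatedSpace (D.obj i)]

include hc in
/-- A homomorphism over the limit comes from a homomorphism at a stage. -/
theorem exists_monHom_stage {k : I} {P Q : Over (D.obj k)} [GrpObj P] [GrpObj Q] [QuasiCompact P.hom]
    [QuasiSeparated P.hom] [LocallyOfFinitePresentation Q.hom]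
    (u₀ : Red.bc (c.π.app k) P ⟶ Red.bc (c.π.app k) Q) [IsMonHom u₀] :
    ∃ (a : I) (f : a ⟶ k) (u : Red.bc (D.map f) P ⟶ Red.bc (D.map f) Q), IsMonHom u ∧
      (∀ (W : MorphismProperty Scheme.{u}) [W.RespectsIso], W u₀.left → W ((Over.pullback (c.π.app a)).map u).left) ∧
      (cmp (c.w f) P).inv.left ≫ pullback.fst (Red.bc (D.map f) P).hom (c.π.app a) ≫ u.left ≫
        pullback.fst Q.hom (D.map f) = u₀.left ≫ pullback.fst Q.hom (c.π.app k) := by
  obtain ⟨a₁, f₁, u₁, hu₁⟩ := exists_map_fst_eq D hc u₀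
  let P₁ := Red.bc (D.map f₁) P
  let Q₁ := Red.bc (D.map f₁) Q
  haveI : QuasiCompact P₁.hom := MorphismProperty.pullback_snd _ _ inferInstance
  haveI : QuasiSeparated P₁.hom := MorphismProperty.pullback_snd _ _ inferInstance
  haveI : LocallyOfFinitePresentation Q₁.hom := MorphismProperty.pullback_snd _ _ inferInstance
  haveI : QuasiCompact (P₁ ⊗ P₁).hom := inferInstanceAs (QuasiCompact (pullback.fst P₁.hom P₁.hom ≫ P₁.hom))
  haveI : QuasiSeparated (P₁ ⊗ P₁).hom := inferInstanceAs (QuasiSeparated (pullback.fst P₁.hom P₁.hom ≫ P₁.hom))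
  haveI : LocallyOfFiniteType Q₁.hom := inferInstance
  have hm : IsMonHom ((Over.pullback (c.π.app a₁)).map u₁) := by rw [hu₁]; infer_instance
  have hz : (cmp (c.w f₁) P).inv.left ≫ pullback.fst (Red.bc (D.map f₁) P).hom (c.π.app a₁) ≫ u₁.left ≫
      pullback.fst Q.hom (D.map f₁) = u₀.left ≫ pullback.fst Q.hom (c.π.app k) := by
    rw [← reassoc_of% (map_left_fst (h := c.π.app a₁) u₁), hu₁]
    simp only [Over.comp_left, Category.assoc]
    rw [← Over.comp_left_assoc, Iso.inv_hom_id, Over.id_left, Category.id_comp]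
    exact congrArg (u₀.left ≫ ·) (cmp_inv_fst (c.w f₁) Q)
  obtain ⟨a₂, f₂, h₂⟩ := exists_map_eq D hc (μ[P₁] ≫ u₁) ((u₁ ⊗ₘ u₁) ≫ μ[Q₁]) ((isMonHom_map_iff u₁).1 hm)
  haveI : IsMonHom ((Over.pullback (D.map f₂)).map u₁) := (isMonHom_map_iff u₁).2 h₂
  refine ⟨a₂, f₂ ≫ f₁, (cmp (D.map_comp f₂ f₁).symm P).inv ≫ (Over.pullback (D.map f₂)).map u₁ ≫
    (cmp (D.map_comp f₂ f₁).symm Q).hom, inferInstance, fun W _ hW => ?_, push_spec D f₁ f₂ u₁ hz⟩
  have hii : ∀ {S : Scheme.{u}} {X Y : Over S} (w : X ⟶ Y), IsIso w → IsIso w.left := fun w hw =>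
    inferInstanceAs (IsIso ((Over.forget _).map w))
  haveI := hii ((Over.pullback (c.π.app a₂)).map (cmp (D.map_comp f₂ f₁).symm P).inv) inferInstance
  haveI := hii ((Over.pullback (c.π.app a₂)).map (cmp (D.map_comp f₂ f₁).symm Q).hom) inferInstance
  haveI := hii (cmp (c.w f₂) (Red.bc (D.map f₁) P)).hom inferInstance
  haveI := hii (cmp (c.w f₂) (Red.bc (D.map f₁) Q)).inv inferInstance
  haveI := hii (cmp (c.w f₁) P).hom inferInstance
  haveI := hii (cmp (c.w f₁) Q).inv inferInstance
  have e : (Over.pullback (c.π.app a₂)).map ((Over.pullback (D.map f₂)).map u₁) =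
      (cmp (c.w f₂) P₁).hom ≫ (Over.pullback (c.π.app a₁)).map u₁ ≫ (cmp (c.w f₂) Q₁).inv := by
    rw [← Category.assoc, ← cmp_natural (c.w f₂) u₁, Category.assoc, Iso.hom_inv_id, Category.comp_id]
  rw [(Over.pullback (c.π.app a₂)).map_comp, (Over.pullback (c.π.app a₂)).map_comp, e, hu₁, Over.comp_left, Over.comp_left, Over.comp_left,
    Over.comp_left, Over.comp_left, Over.comp_left]
  simpa only [MorphismProperty.cancel_left_of_respectsIso, MorphismProperty.cancel_right_of_respectsIso] using hW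

include hc in
/-- Being a closed immersion holds at a stage. -/
theorem exists_closedImmersion_stage {k : I} {P Q : Over (D.obj k)} [QuasiCompact P.hom] [QuasiSeparated P.hom]
    [LocallyOfFiniteType P.hom] [QuasiCompact Q.hom] [IsSeparated Q.hom] (u : P ⟶ Q)
    (hci : IsClosedImmersion ((Over.pullback (c.π.app k)).map u).left) :
    ∃ (a : I) (f : a ⟶ k), IsClosedImmersion ((Over.pullback (D.map f)).map u).left := by
  haveI : ∀ {a b : I} (f : a ⟶ b), IsAffineHom (D.map f) := fun f => inferInstance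
  haveI : CompactSpace Q.left := QuasiCompact.compactSpace_of_compactSpace Q.hom
  haveI : LocallyOfFiniteType u.left := by
    haveI : LocallyOfFiniteType (u.left ≫ Q.hom) := by rw [Over.w]; infer_instance
    exact locallyOfFiniteType_of_comp u.left Q.hom
  haveI : QuasiCompact u.left := by
    haveI : QuasiCompact (u.left ≫ Q.hom) := by rw [Over.w]; infer_instance
    exact QuasiCompact.of_comp u.left Q.hom
  haveI : QuasiSeparated u.left := by
    haveI : QuasiSeparated (u.left ≫ Q.hom) := by rw [Over.w]; infer_instance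
    exact QuasiSeparated.of_comp u.left Q.hom
  obtain ⟨a, f, Xi, Yi, fi, gi, pY, pX, hYi, hXi, hfi⟩ := MorLib.Desc.descend₂ D c hc
    (P := @IsClosedImmersion) (Q := @LocallyOfFiniteType) MorLib.Desc.core_closedImmersion u.left Q.hom
    inferInstance ((Over.pullback (c.π.app k)).map u).left (Red.bc (c.π.app k) Q).hom
    (pullback.fst Q.hom (c.π.app k)) (pullback.fst P.hom (c.π.app k))
    (IsPullback.of_hasPullback Q.hom (c.π.app k)) (isPullback_map_left' u (c.π.app k)) hci
  refine ⟨a, f, ?_⟩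
  have s := isPullback_map_left' u (D.map f)
  let α := (IsPullback.of_hasPullback Q.hom (D.map f)).isoIsPullback _ _ hYi
  have hα : α.hom ≫ pY = pullback.fst Q.hom (D.map f) := IsPullback.isoIsPullback_hom_fst _ _ _ _
  let β : pullback P.hom (D.map f) ⟶ Xi := hXi.lift (pullback.fst P.hom (D.map f))
    (((Over.pullback (D.map f)).map u).left ≫ α.hom) (by rw [Category.assoc, hα]; exact s.w)
  have hsq : IsPullback β ((Over.pullback (D.map f)).map u).left fi α.hom :=
    IsPullback.of_right (by rw [hXi.lift_fst, hα]; exact s) (hXi.lift_snd _ _ _) hXi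
  exact MorphismProperty.of_isPullback hsq hfi

include hc in
/-- A closed subgroup scheme over the limit comes from a stage. -/
theorem exists_sub_stage {j₀ : I} (G : Over (D.obj j₀)) [GrpObj G] [LocallyOfFinitePresentation G.hom]
    [QuasiCompact G.hom] [IsSeparated G.hom] (H : Over c.pt) [GrpObj H] [LocallyOfFinitePresentation H.hom]
    (i : H ⟶ Red.bc (c.π.app j₀) G) [IsMonHom i] [IsClosedImmersion i.left] :
    ∃ (a : I) (f : a ⟶ j₀) (H' : Over (D.obj a)) (_ : GrpObj H') (v : H' ⟶ Red.bc (D.map f) G)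
      (e : H ≅ Red.bc (c.π.app a) H'),
      IsMonHom v ∧ IsClosedImmersion v.left ∧
        e.hom.left ≫ pullback.fst H'.hom (c.π.app a) ≫ v.left ≫ pullback.fst G.hom (D.map f) =
          i.left ≫ pullback.fst G.hom (c.π.app j₀) := by
  haveI : QuasiCompact (Red.bc (c.π.app j₀) G).hom := MorphismProperty.pullback_snd _ _ inferInstance
  haveI : IsSeparated (Red.bc (c.π.app j₀) G).hom := MorphismProperty.pullback_snd _ _ inferInstance
  haveI : QuasiCompact H.hom := by rw [← Over.w i]; infer_instance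
  haveI : IsSeparated H.hom := by rw [← Over.w i]; infer_instance
  haveI : ∀ {a b : I} (f : a ⟶ b), IsAffineHom (D.map f) := fun f => inferInstance
  obtain ⟨j, Hj, hHj, e, he, hlfp, hqc, hqs⟩ := exists_grp_model (hc := hc) (ConsPropLib.hasModel hc H.hom)
  letI := hHj; haveI := he; haveI := hlfp; haveI := hqc; haveI := hqs
  let k := IsCofiltered.min j j₀
  let p : k ⟶ j := IsCofiltered.minToLeft j j₀
  let q : k ⟶ j₀ := IsCofiltered.minToRight j j₀
  let P := Red.bc (D.map p) Hj
  let Q := Red.bc (D.map q) G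
  haveI : QuasiCompact P.hom := MorphismProperty.pullback_snd _ _ inferInstance
  haveI : QuasiSeparated P.hom := MorphismProperty.pullback_snd _ _ inferInstance
  haveI : LocallyOfFinitePresentation P.hom := MorphismProperty.pullback_snd _ _ inferInstance
  haveI : LocallyOfFinitePresentation Q.hom := MorphismProperty.pullback_snd _ _ inferInstance
  haveI : IsSeparated Q.hom := MorphismProperty.pullback_snd _ _ inferInstance
  haveI : QuasiCompact Q.hom := MorphismProperty.pullback_snd _ _ inferInstance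
  let u₀ : Red.bc (c.π.app k) P ⟶ Red.bc (c.π.app k) Q :=
    (cmp (c.w p) Hj).hom ≫ e.inv ≫ i ≫ (cmp (c.w q) G).inv
  have hii : ∀ {S : Scheme.{u}} {X Y : Over S} (w : X ⟶ Y), IsIso w → IsIso w.left := fun w hw =>
    inferInstanceAs (IsIso ((Over.forget _).map w))
  haveI : IsMonHom u₀ := inferInstance
  have hu₀ : IsClosedImmersion u₀.left := by
    haveI := hii (cmp (c.w p) Hj).hom inferInstance
    haveI := hii e.inv inferInstance
    haveI := hii (cmp (c.w q) G).inv inferInstance
    simp only [u₀, Over.comp_left]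
    infer_instance
  obtain ⟨a, f, u, hu, hW, hz⟩ := exists_monHom_stage D hc u₀
  haveI := hu
  haveI : QuasiCompact (Red.bc (D.map f) P).hom := MorphismProperty.pullback_snd _ _ inferInstance
  haveI : QuasiSeparated (Red.bc (D.map f) P).hom := MorphismProperty.pullback_snd _ _ inferInstance
  haveI : LocallyOfFiniteType (Red.bc (D.map f) P).hom :=
    MorphismProperty.pullback_snd _ _ (show LocallyOfFiniteType P.hom from inferInstance)
  haveI : IsSeparated (Red.bc (D.map f) Q).hom := MorphismProperty.pullback_snd _ _ inferInstance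
  haveI : QuasiCompact (Red.bc (D.map f) Q).hom := MorphismProperty.pullback_snd _ _ inferInstance
  obtain ⟨a', g, hg⟩ := exists_closedImmersion_stage D hc u (hW @IsClosedImmersion hu₀)
  haveI := hg
  let u' := (cmp (D.map_comp g f).symm P).inv ≫ (Over.pullback (D.map g)).map u ≫ (cmp (D.map_comp g f).symm Q).hom
  let v := u' ≫ (cmp (D.map_comp (g ≫ f) q).symm G).hom
  haveI : IsMonHom v := inferInstance
  haveI : IsClosedImmersion v.left := by
    haveI := hii (cmp (D.map_comp g f).symm P).inv inferInstance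
    haveI := hii (cmp (D.map_comp g f).symm Q).hom inferInstance
    haveI := hii (cmp (D.map_comp (g ≫ f) q).symm G).hom inferInstance
    simp only [v, u', Over.comp_left]
    infer_instance
  have h3 := push_spec D f g u hz
  refine ⟨a', (g ≫ f) ≫ q, Red.bc (D.map (g ≫ f)) P, inferInstance, v,
    e ≪≫ (cmp (c.w p) Hj).symm ≪≫ (cmp (c.w (g ≫ f)) P).symm, inferInstance, inferInstance, ?_⟩
  have e1 : v.left ≫ pullback.fst G.hom (D.map ((g ≫ f) ≫ q)) =
      (u'.left ≫ pullback.fst Q.hom (D.map (g ≫ f))) ≫ pullback.fst G.hom (D.map q) :=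
    (Category.assoc _ _ _).trans
      ((congrArg (u'.left ≫ ·) (cmp_hom_fst (D.map_comp (g ≫ f) q).symm G)).trans (Category.assoc _ _ _).symm)
  have e2 : u₀.left ≫ pullback.fst Q.hom (c.π.app k) ≫ pullback.fst G.hom (D.map q) =
      (cmp (c.w p) Hj).hom.left ≫ e.inv.left ≫ i.left ≫ pullback.fst G.hom (c.π.app j₀) := by
    have := cmp_inv_fst (c.w q) G
    exact ((Category.assoc _ _ _).trans (congrArg (_ ≫ ·) ((Category.assoc _ _ _).trans
      (congrArg (_ ≫ ·) ((Category.assoc _ _ _).trans (congrArg (_ ≫ ·) this))))))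
  have e3 : e.hom.left ≫ (cmp (c.w p) Hj).inv.left ≫ (cmp (c.w p) Hj).hom.left ≫ e.inv.left = 𝟙 _ := by
    rw [← Over.comp_left, ← Over.comp_left, ← Over.comp_left, Iso.inv_hom_id_assoc, Iso.hom_inv_id]
    rfl
  show (e.hom.left ≫ (cmp (c.w p) Hj).inv.left ≫ (cmp (c.w (g ≫ f)) P).inv.left) ≫ _ = _
  rw [e1]
  have h3' : (cmp (c.w (g ≫ f)) P).inv.left ≫ pullback.fst (Red.bc (D.map (g ≫ f)) P).hom (c.π.app a') ≫
      u'.left ≫ pullback.fst Q.hom (D.map (g ≫ f)) = u₀.left ≫ pullback.fst Q.hom (c.π.app k) := h3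
  simp only [Category.assoc]
  rw [reassoc_of% h3', e2, reassoc_of% e3]

include hc in
/-- Variant for a system lying over a fixed base. -/
theorem exists_sub_stage_over {X : Scheme.{u}} (t : ∀ a, D.obj a ⟶ X) (ht : ∀ {a b : I} (f : a ⟶ b), D.map f ≫ t b = t a)
    (τ : c.pt ⟶ X) (hτ : ∀ a, c.π.app a ≫ t a = τ) (G : Over X) [GrpObj G] [LocallyOfFinitePresentation G.hom]
    [IsAffineHom G.hom] [IsLocallyNoetherian c.pt] (H : Over c.pt) [GrpObj H] (i : H ⟶ Red.bc τ G) [IsMonHom i]
    [IsClosedImmersion i.left] :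
    ∃ (a : I) (H' : Over (D.obj a)) (_ : GrpObj H') (v : H' ⟶ Red.bc (t a) G) (e : H ≅ Red.bc (c.π.app a) H'),
      IsMonHom v ∧ IsClosedImmersion v.left ∧
        e.hom.left ≫ pullback.fst H'.hom (c.π.app a) ≫ v.left ≫ pullback.fst G.hom (t a) =
          i.left ≫ pullback.fst G.hom τ := by
  obtain ⟨j₀⟩ := IsCofiltered.nonempty (C := I)
  have hii : ∀ {S : Scheme.{u}} {X Y : Over S} (w : X ⟶ Y), IsIso w → IsIso w.left := fun w hw =>
    inferInstanceAs (IsIso ((Over.forget _).map w))
  let G0 : Over (D.obj j₀) := Red.bc (t j₀) G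
  haveI : LocallyOfFinitePresentation G0.hom := MorphismProperty.pullback_snd _ _ inferInstance
  haveI : IsAffineHom G0.hom := MorphismProperty.pullback_snd _ _ inferInstance
  let i' : H ⟶ Red.bc (c.π.app j₀) G0 := i ≫ (cmp (hτ j₀) G).inv
  haveI : IsMonHom i' := inferInstance
  haveI := hii (cmp (hτ j₀) G).inv inferInstance
  haveI : IsClosedImmersion i'.left := by
    simp only [i', Over.comp_left]; infer_instance
  haveI : LocallyOfFinitePresentation H.hom := by
    haveI : LocallyOfFinitePresentation (Red.bc τ G).hom := MorphismProperty.pullback_snd _ _ inferInstance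
    haveI : LocallyOfFiniteType H.hom := by rw [← Over.w i]; infer_instance
    exact LocallyOfFinitePresentation.iff_locallyOfFiniteType.2 inferInstance
  obtain ⟨a, f, H', hH', v, e, hv, hvci, he⟩ := exists_sub_stage D hc G0 H i'
  letI := hH'; haveI := hv; haveI := hvci
  haveI := hii (cmp (ht f) G).hom inferInstance
  refine ⟨a, H', inferInstance, v ≫ (cmp (ht f) G).hom, e, inferInstance,
    inferInstanceAs (IsClosedImmersion (v.left ≫ (cmp (ht f) G).hom.left)), ?_⟩
  have e1 : (v ≫ (cmp (ht f) G).hom).left ≫ pullback.fst G.hom (t a) =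
      (v.left ≫ pullback.fst G0.hom (D.map f)) ≫ pullback.fst G.hom (t j₀) :=
    (Category.assoc _ _ _).trans ((congrArg (v.left ≫ ·) (cmp_hom_fst (ht f) G)).trans (Category.assoc _ _ _).symm)
  have e2 : i'.left ≫ pullback.fst G0.hom (c.π.app j₀) ≫ pullback.fst G.hom (t j₀) =
      i.left ≫ pullback.fst G.hom τ :=
    (Category.assoc _ _ _).trans (congrArg (i.left ≫ ·) (cmp_inv_fst (hτ j₀) G))
  rw [e1]
  simp only [Category.assoc]
  rw [reassoc_of% he, e2]

end Groth.Agent.GrpLimLib
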